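import Cfsg.Agent.Gold.PrSig

/-!
# Direct factor sets: local balance
-/

set_option autoImplicit false

namespace Cfsg.Lib.DFac

open Subgroup Cfsg.Lib.Trans Cfsg.Lib.Local Cfsg.Lib.Solv Cfsg.Lib.Gold Cfsg.Agent
open scoped commutatorElement

universe u

/-- `A` and `B` are separated modulo `O(H)` inside the normal subgroup `K` of `H`. -/
structure Sep {G : Type*} [Group G] (H K A B : Subgroup G) : Prop where
  le : K ≤ H
  norm : H ≤ Ns K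
  l1 : A ≤ K
  l2 : B ≤ K
  comm : ⁅ncl A K, ncl B K⁆ ≤ Oc H

/-- A four-group. -/
structure Four {G : Type*} [Group G] (U : Subgroup G) : Prop where
  card : Nat.card U = 4
  sq : ∀ u ∈ U, u * u = 1

/-- The elements of `H` centralising `X` modulo `O(H)`. -/
abbrev Mx {G : Type*} [Group G] (X H : Subgroup G) : Subgroup G := Mc (X : Set G) H

variable {G : Type u} [Group G] {H K A A' B B' U X Y Z : Subgroup G} {a z g x : G}

theorem Sep.symm (h : Sep H K A B) : Sep H K B A :=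
  ⟨h.le, h.norm, h.l2, h.l1, by rw [commutator_comm]; exact h.comm⟩

theorem Sep.mono (h : Sep H K A B) (hA : A' ≤ A) (hB : B' ≤ B) : Sep H K A' B' :=
  ⟨h.le, h.norm, hA.trans h.l1, hB.trans h.l2,
    (commutator_mono (ncl_mono_left hA) (ncl_mono_left hB)).trans h.comm⟩

theorem Sep.le_Mx (h : Sep H K A B) : ncl B K ≤ Mx (ncl A K) H := fun _ hx =>
  mem_Mc.2 ⟨h.le (ncl_le h.l2 hx), fun _ hb _ => h.comm (commutator_mem_commutator hb hx)⟩

theorem Four.isPGroup (hU : Four U) : IsPGroup 2 U := isPGroup_of_sq hU.sq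

theorem Four.le_C1 (hU : Four U) (ha : a ∈ U) : U ≤ C1 a := Tl.le_C1_of_sq hU.sq ha

variable [Finite G]

theorem Four.exists_ne (hU : Four U) : ∃ u ∈ U, u ≠ 1 := by
  obtain ⟨z, hz, h1, -⟩ := KL.exists_ne_of_four (Z := U) hU.card.ge 1
  exact ⟨z, hz, h1⟩

theorem mem_Ns_Mx (hg : g ∈ H) (hX : g ∈ Ns X) : g ∈ Ns (Mx X H) :=
  mem_normalizer_of_cj_le (cj_le_iff.2 fun x hx => by
    obtain ⟨h1, h2⟩ := mem_Mc.1 hx
    refine mem_Mc.2 ⟨mul_mem (mul_mem hg h1) (inv_mem hg), fun b hb hbH => ?_⟩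
    have := mem_normalizer_conj (le_Ns_Oc_self hg) (h2 (g⁻¹ * b * g)
      (mem_normalizer_conj' hX hb) (mul_mem (mul_mem (inv_mem hg) hbH) hg))
    simpa [mul_assoc] using this)

theorem Oc_Mx_le (hX : X ≤ K) (hK : K ≤ H) (hn : H ≤ Ns K) (hXn : K ≤ Ns X) :
    Oc (Mx X H) ≤ Oc H := by
  have h1 : K ≤ Ns (Oc (Mx X H)) := le_Ns_Oc fun k hk => mem_Ns_Mx (hK hk) (hXn hk)
  have h2 : Oc (Mx X H) ⊓ K ≤ Oc H :=
    (le_Oc_of_le_Ns inf_le_right (le_Ns_inf h1 le_normalizer)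
      (odd_card_of_le inf_le_left odd_card_Oc)).trans (Oc_le_Oc_of_normal hK hn)
  have h3 : Oc (Mx X H) ≤ Mx K H := fun o ho => by
    have hoH : o ∈ H := Mc_le (Oc_le ho)
    refine mem_Mc.2 ⟨hoH, fun y hy _ => h2 (mem_inf.2
      ⟨mul_mem (mem_normalizer_conj (h1 hy) ho) (inv_mem ho), ?_⟩)⟩
    have := mul_mem hy (mem_normalizer_conj (hn hoH) (K.inv_mem hy))
    simpa [mul_assoc] using this
  have h4 : Mx K H ≤ Mx X H := fun x hx =>
    mem_Mc.2 ⟨(mem_Mc.1 hx).1, fun b hb hbH => (mem_Mc.1 hx).2 b (hX hb) hbH⟩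
  exact (le_inf le_rfl h3).trans ((Oc_inf_le h4).trans
    (Oc_le_Oc_of_normal Mc_le fun g hg => mem_Ns_Mx hg (hn hg)))

omit [Finite G] in
theorem mem_Ns_ncl_zpowers (hK : g ∈ Ns K) (hg : g ∈ C1 a) : g ∈ Ns (ncl (zpowers a) K) := by
  rw [mem_Ns_iff, cj_ncl, cj_eq_of_mem_normalizer hK, cj_zpowers, mem_C1.1 hg, mul_inv_cancel_right]

namespace Sep

theorem bal (h : Sep H K (zpowers a) B) (ha : a * a = 1) :
    (Oc H ⊔ (Oc (C1 a) ⊓ H)) ⊓ Mx (ncl (zpowers a) K) H ≤ Oc H :=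
  (le_Oc_of_le_Ns inf_le_right (le_Ns_inf (Mc_le_Ns (le_ncl' (mem_zpowers a)) ha
    (h.le (h.l1 (mem_zpowers a)))) le_normalizer)
    (odd_card_of_le inf_le_left odd_Oc_sup)).trans
      (Oc_Mx_le (ncl_le h.l1) h.le h.norm le_Ns_ncl)

theorem le_Ns_Mx (h : Sep H K (zpowers a) B) (hY : Y ≤ Oc (C1 a) ⊓ H) :
    Y ≤ Ns (Mx (ncl (zpowers a) K) H) := fun _ hy =>
  mem_Ns_Mx (hY hy).2 (mem_Ns_ncl_zpowers (h.norm (hY hy).2) (Oc_le (hY hy).1))

theorem bal1 (h : Sep H K (zpowers a) U) (ha : a * a = 1) (hY : Y ≤ Oc (C1 a) ⊓ H)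
    (hUY : U ≤ Ns Y) : ⁅Y, U⁆ ≤ Oc H :=
  le_trans (le_inf ((commutator_le_left_of_le hUY).trans (hY.trans le_sup_right))
    ((commutator_mono le_rfl (le_ncl'.trans h.le_Mx)).trans
      (commutator_le_right_of_le (h.le_Ns_Mx hY)))) (h.bal ha)

theorem bal2 (h : Sep H K (zpowers a) (zpowers z)) (ha : a * a = 1) (hz : z * z = 1) :
    Oc (C1 a) ⊓ Oc (C1 z) ⊓ H ≤ Oc H := fun y hy => by
  have hy' : y ∈ Oc (C1 z) ⊓ H := ⟨hy.1.2, hy.2⟩
  refine h.bal ha (mem_inf.2 ⟨mem_sup_right (mem_inf.2 ⟨hy.1.1, hy.2⟩),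
    mem_Mc.2 ⟨hy.2, fun b hb _ => ?_⟩⟩)
  have hb' := h.symm.le_Mx hb
  refine h.symm.bal hz (mem_inf.2 ⟨mul_mem ?_ (inv_mem (mem_sup_right hy')), ?_⟩)
  · exact mem_normalizer_conj (Mc_le_Ns (le_ncl' (mem_zpowers z)) hz
      (h.le (h.l2 (mem_zpowers z))) hb') (mem_sup_right hy')
  · simpa [mul_assoc] using
      mul_mem hb' (mem_normalizer_conj (h.symm.le_Ns_Mx le_rfl hy') (inv_mem hb'))

end Sep

/-- An involution separated from a four-group in the centralisers of its involutions. -/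
structure FA {G : Type*} [Group G] (a : G) (U : Subgroup G) : Prop where
  sq : a * a = 1
  four : Four U
  le : U ≤ C1 a
  sep : ∀ w ∈ U, w ≠ 1 → ∃ K, Sep (C1 w) K (zpowers a) U

namespace FA

theorem inf_Cs_le_Dl (h : FA a U) (hz : z ∈ U) : Oc (C1 a) ⊓ Oc (C1 z) ⊓ Cs U ≤ Dl U :=
  le_Dl.2 fun u hu h1 => by
    obtain ⟨K, hK⟩ := h.sep u hu h1
    exact le_trans (inf_le_inf_left _ (Cs_le_C1 hu))
      ((hK.mono le_rfl (zpowers_le.2 hz)).bal2 h.sq (h.four.sq z hz))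

theorem th_cond (h : FA a U) : ⁅Oc (C1 a), U⁆ ⊓ Cs U ≤ Dl U := by
  have hn : U ≤ Ns (Oc (C1 a)) := h.le.trans C1_le_Ns_Oc
  refine graded' h.four.sq h.four.card.ge odd_card_Oc hn fun z hz h1 => ?_
  have hn' : U ≤ Ns (Oc (C1 a) ⊓ C1 z) := le_Ns_inf hn (le_Ns_C1 (h.four.le_C1 hz))
  obtain ⟨K, hK⟩ := h.sep z hz h1
  refine le_trans (inf_le_inf_right _ (le_inf ?_ ?_)) (h.inf_Cs_le_Dl hz)
  · exact (commutator_le_left_of_le hn').trans inf_le_left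
  · exact hK.bal1 h.sq le_rfl hn'

theorem th_le (h : FA a U) : th a U ≤ Oc (C1 a) := Two.th_le h.le

theorem th_inf_Cs (h : FA a U) : th a U ⊓ Cs U ≤ Dl U := gpart_inf_le h.th_cond

theorem le_th (h : FA a U) (hZ : Z ≤ Oc (C1 a)) (hUZ : U ≤ Ns Z) (hc : Z ⊓ Cs U ≤ Dl U) :
    Z ≤ th a U := le_gpart h.four.isPGroup odd_card_Oc hZ hUZ hc

theorem th_inf_le (h : FA a U) (hK : Sep H K (zpowers a) U) : th a U ⊓ H ≤ Oc H := by
  have hn : U ≤ Ns (th a U ⊓ H) :=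
    le_Ns_inf (fun u hu => Two.mem_Ns_th (h.le hu) (le_normalizer hu))
      ((hK.l2.trans hK.le).trans le_normalizer)
  have hle : th a U ⊓ H ≤ Oc (C1 a) ⊓ H := inf_le_inf_right _ h.th_le
  refine le_of_commutator_of_centralizer h.four.isPGroup
    (odd_card_of_le (hle.trans inf_le_left) odd_card_Oc) hn (hK.bal1 h.sq hle hn) ?_
  obtain ⟨z, hz, h1⟩ := h.four.exists_ne
  refine le_trans (fun x hx => ?_) ((hK.mono le_rfl (zpowers_le.2 hz)).bal2 h.sq (h.four.sq z hz))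
  exact ⟨⟨(hle hx.1).1, Dl_le hz h1 (h.th_inf_Cs ⟨hx.1.1, hx.2⟩)⟩, hx.1.2⟩

theorem th_le_tt (h : FA a U) (hz : z * z = 1) (hza : z ∈ C1 a) (hzU : z ∈ Ns U)
    (hK : Sep (C1 z) K (zpowers a) U) : th a U ≤ tt a z := by
  refine le_of_commutator_of_centralizer (isPGroup_zpowers_of_sq hz)
    (odd_card_of_le h.th_le odd_card_Oc) (zpowers_le.2 (Two.mem_Ns_th hza hzU))
    ((commutator_mono h.th_le le_rfl).trans le_sup_left) (le_sup_right.trans' ?_)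
  rw [Cs_zpowers]
  exact le_inf (inf_le_left.trans h.th_le) (h.th_inf_le hK)

theorem th_eq (h : FA a U) (hz : z ∈ U) (h1 : z ≠ 1) : th a U = tt a z := by
  obtain ⟨K, hK⟩ := h.sep z hz h1
  refine le_antisymm (h.th_le_tt (h.four.sq z hz) (h.le hz) (le_normalizer hz) hK) (sup_le ?_ ?_)
  · exact (commutator_mono le_rfl (zpowers_le.2 hz)).trans le_sup_left
  · exact h.le_th inf_le_left
      (le_Ns_inf (h.le.trans C1_le_Ns_Oc) ((h.four.le_C1 hz).trans C1_le_Ns_Oc)) (h.inf_Cs_le_Dl hz)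

end FA

end Cfsg.Lib.DFac
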