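import Cfsg.Agent.DFac.Bal

/-!
# Direct factor sets: the signalizer functor on `U₁ × U₂`
-/

set_option autoImplicit false

namespace Cfsg.Lib.DFac

open Subgroup Cfsg.Lib.Trans Cfsg.Lib.Local Cfsg.Lib.Solv Cfsg.Lib.Gold Cfsg.Agent
open scoped commutatorElement

universe u

/-- Two commuting four-groups separated in the relevant centralisers. -/
structure Fs {G : Type*} [Group G] (U₁ U₂ : Subgroup G) : Prop where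
  f1 : Four U₁
  f2 : Four U₂
  comm : U₁ ≤ Cs U₂
  disj : Disjoint U₁ U₂
  s1 : ∀ e ∈ U₁, e ≠ 1 → Sep (C1 e) (C1 e) U₁ U₂
  s2 : ∀ e ∈ U₂, e ≠ 1 → Sep (C1 e) (C1 e) U₁ U₂
  mixed : ∀ V ≤ U₁ ⊔ U₂, Nat.card V = 4 → V ⊓ U₁ = ⊥ → V ⊓ U₂ = ⊥ → Sep (Cs V) (Cs V) U₁ U₂

variable {G : Type u} [Group G] {H U U₁ U₂ V Y Z : Subgroup G} {a z : G}

theorem Sep.comm_comm (h : Sep H H U₁ U₂) (hY : Y ≤ H) : ⁅⁅Y, U₁⁆, U₂⁆ ≤ Oc H :=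
  (commutator_mono ((commutator_mono hY le_rfl).trans commutator_le_ncl) le_ncl').trans h.comm

namespace Fs

theorem symm (h : Fs U₁ U₂) : Fs U₂ U₁ :=
  ⟨h.f2, h.f1, le_Cs_comm.1 h.comm, h.disj.symm, fun e he h1 => (h.s2 e he h1).symm,
    fun e he h1 => (h.s1 e he h1).symm,
    fun V hV h4 h1 h2 => (h.mixed V (by rwa [sup_comm]) h4 h2 h1).symm⟩

theorem sq (h : Fs U₁ U₂) : ∀ t ∈ U₁ ⊔ U₂, t * t = 1 := fun t ht => by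
  obtain ⟨a, ha, z, hz, rfl⟩ := (Coprime.mem_sup_iff (h.symm.comm.trans Cs_le_Ns)).1 ht
  calc a * z * (a * z) = a * (z * a) * z := by group
    _ = (a * a) * (z * z) := by rw [mem_Cs.1 (h.comm ha) z hz]; group
    _ = 1 := by rw [h.f1.sq a ha, h.f2.sq z hz, one_mul]

theorem le1 (h : Fs U₁ U₂) (ha : a ∈ U₁ ⊔ U₂) : U₁ ≤ C1 a :=
  le_sup_left.trans (Tl.le_C1_of_sq h.sq ha)

theorem le2 (h : Fs U₁ U₂) (ha : a ∈ U₁ ⊔ U₂) : U₂ ≤ C1 a :=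
  le_sup_right.trans (Tl.le_C1_of_sq h.sq ha)

theorem fa (h : Fs U₁ U₂) (ha : a ∈ U₁) : FA a U₂ :=
  ⟨h.f1.sq a ha, h.f2, h.le2 (mem_sup_left ha),
    fun w hw h1 => ⟨_, (h.s2 w hw h1).mono (zpowers_le.2 ha) le_rfl⟩⟩

variable [Finite G]

theorem card (h : Fs U₁ U₂) : Nat.card (U₁ ⊔ U₂ : Subgroup G) = 16 := by
  rw [Coprime.card_sup (h.symm.comm.trans Cs_le_Ns) h.disj, h.f1.card, h.f2.card]

theorem inf_Cs (h : Fs U₁ U₂) (hZ : Zf U₁ U₂ Z) (hV : V ≤ U₁ ⊔ U₂) : Zf U₁ U₂ (Z ⊓ Cs V) :=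
  have hT : U₁ ⊔ U₂ ≤ Ns (Cs V) := (le_Cs_of_sq h.sq hV).trans le_normalizer
  Frs.mono hZ inf_le_left (le_Ns_inf hZ.n1 (le_sup_left.trans hT))
    (le_Ns_inf hZ.n2 (le_sup_right.trans hT))

theorem inf_C1 (h : Fs U₁ U₂) (hZ : Zf U₁ U₂ Z) (ha : a ∈ U₁ ⊔ U₂) :
    Zf U₁ U₂ (Z ⊓ C1 a) := by
  rw [← Cs_zpowers]; exact h.inf_Cs hZ (zpowers_le.2 ha)

theorem le_Oc (h : Fs U₁ U₂) (hZ : Zf U₁ U₂ Z) (hH : Sep H H U₁ U₂) (hZH : Z ≤ H) :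
    Z ≤ Oc H := by
  obtain ⟨a, ha, ha1⟩ := h.f1.exists_ne
  obtain ⟨z, hz, hz1⟩ := h.f2.exists_ne
  have hle : ⁅Z, U₁⁆ ≤ Z := commutator_le_left_of_le hZ.n1
  have hs := hH.symm.mono (zpowers_le.2 hz) le_rfl
  refine le_of_commutator_of_centralizer h.f1.isPGroup hZ.odd hZ.n1 ?_ ?_
  · refine le_of_commutator_of_centralizer h.f2.isPGroup (odd_card_of_le hle hZ.odd)
      (le_Ns_commutator hZ.n2 (h.symm.comm.trans Cs_le_Ns)) (hH.comm_comm hZH) fun x hx => ?_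
    exact hs.bal (h.f2.sq z hz) (mem_inf.2 ⟨mem_sup_right (mem_inf.2
      ⟨Dl_le hz hz1 (hZ.c2 ⟨hle hx.1, hx.2⟩), hZH (hle hx.1)⟩),
        hs.le_Mx (commutator_le_ncl (commutator_mono hZH le_rfl hx.1))⟩)
  · have hZ' := h.inf_Cs hZ (le_sup_left (a := U₁) (b := U₂))
    have hY : Z ⊓ Cs U₁ ≤ Oc (C1 a) ⊓ H :=
      le_inf (hZ.c1.trans (Dl_le ha ha1)) (inf_le_left.trans hZH)
    refine le_of_commutator_of_centralizer h.f2.isPGroup hZ'.odd hZ'.n2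
      ((hH.mono (zpowers_le.2 ha) le_rfl).bal1 (h.f1.sq a ha) hY hZ'.n2) fun x hx => ?_
    exact (hH.mono (zpowers_le.2 ha) (zpowers_le.2 hz)).bal2 (h.f1.sq a ha) (h.f2.sq z hz)
      ⟨⟨(hY hx.1).1, Dl_le hz hz1 (hZ'.c2 hx)⟩, (hY hx.1).2⟩

theorem zf_th (h : Fs U₁ U₂) (ha : a ∈ U₁) : Zf U₁ U₂ (th a U₂) := by
  have h2 := h.le2 (mem_sup_left ha)
  refine ⟨odd_card_of_le (Two.th_le h2) odd_card_Oc,
    fun u hu => Two.mem_Ns_th (h.le1 (mem_sup_left ha) hu) (Cs_le_Ns (h.comm hu)),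
    fun u hu => Two.mem_Ns_th (h2 hu) (le_normalizer hu), le_Dl.2 fun b hb hb1 => ?_,
    (h.fa ha).th_inf_Cs⟩
  exact (inf_le_inf_left _ (Cs_le_C1 hb)).trans
    ((h.fa ha).th_inf_le ((h.s1 b hb hb1).mono (zpowers_le.2 ha) le_rfl))

theorem le_th (h : Fs U₁ U₂) (ha : a ∈ U₁) (ha1 : a ≠ 1) (hZ : Zf U₁ U₂ Z) (hc : Z ≤ C1 a) :
    Z ≤ th a U₂ := (h.fa ha).le_th (h.le_Oc hZ (h.s1 a ha ha1) hc) hZ.n2 hZ.c2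

theorem le_sup (h : Fs U₁ U₂) (hV : V ≤ U₁ ⊔ U₂) (h4 : Nat.card V = 4) (hd : V ⊓ U₂ = ⊥) :
    U₁ ≤ V ⊔ U₂ := by
  have hc : Nat.card (V ⊔ U₂ : Subgroup G) = 16 := by
    rw [Coprime.card_sup (le_sup_right.trans ((le_Cs_of_sq h.sq hV).trans Cs_le_Ns))
      (disjoint_iff.2 hd), h4, h.f2.card]
  rw [eq_of_le_of_card_ge (sup_le hV le_sup_right : V ⊔ U₂ ≤ U₁ ⊔ U₂) (by rw [hc, h.card])]
  exact le_sup_left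

theorem inf_Cs_le (h : Fs U₁ U₂) (ha : a ∈ U₁) (hz : z ∈ U₂) :
    Oc (C1 a) ⊓ Oc (C1 z) ⊓ Cs U₂ ≤ Dl U₂ := (h.fa ha).inf_Cs_le_Dl hz

section Mixed
variable (h : Fs U₁ U₂) (hV : V ≤ U₁ ⊔ U₂) (h4 : Nat.card V = 4) (hd1 : V ⊓ U₁ = ⊥)
  (hd2 : V ⊓ U₂ = ⊥)
include h hV h4 hd2

theorem exists_mul (ha : a ∈ U₁) : ∃ v ∈ V, ∃ w ∈ U₂, v * w = a :=
  (Coprime.mem_sup_iff (le_sup_right.trans ((le_Cs_of_sq h.sq hV).trans Cs_le_Ns))).1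
    (h.le_sup hV h4 hd2 ha)

theorem mixed_le {X : Subgroup G} (ho : Odd (Nat.card X)) (hn : U₁ ≤ Ns X) (hX : X ≤ Cs V)
    (hH : Sep H H U₁ U₂) (hXH : X ≤ H) : ⁅X, U₁⁆ ≤ Oc H := by
  rw [← commutator_commutator_eq h.f1.isPGroup ho hn, commutator_le]
  intro y hy u hu
  obtain ⟨v, hv, w, hw, rfl⟩ := h.exists_mul hV h4 hd2 hu
  have hyv := mem_Cs.1 (hX (commutator_le_left_of_le hn hy)) v hv
  have hvw : v * w = w * v := comm_of_sq h.sq v (hV hv) w (mem_sup_right hw)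
  have e : ⁅y, v * w⁆ = ⁅y, w⁆ := by
    rw [hvw, commutatorElement_def, commutatorElement_def]
    calc y * (w * v) * y⁻¹ * (w * v)⁻¹ = y * w * y⁻¹ * (y * v) * y⁻¹ * v⁻¹ * w⁻¹ := by group
      _ = _ := by rw [← hyv]; group
  rw [e]
  exact hH.comm_comm hXH (commutator_mem_commutator hy hw)

include hd1

theorem Cs_le : Cs V ⊓ Cs U₁ ≤ Cs U₂ :=
  Cs_inf_le (h.symm.le_sup (by rwa [sup_comm]) h4 hd1)

theorem psi_cond : ⁅Oc (Cs V), U₁⁆ ⊓ Cs U₁ ≤ Dl U₁ ⊓ Dl U₂ := by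
  have hn : U₁ ≤ Ns (Oc (Cs V)) :=
    le_sup_left.trans ((le_Cs_of_sq h.sq hV).trans le_Ns_Oc_self)
  refine graded' h.f1.sq h.f1.card.ge odd_card_Oc hn fun a ha ha1 => ?_
  obtain ⟨v, hv, z, hz, e⟩ := h.exists_mul hV h4 hd2 ha
  have hz1 : z ≠ 1 := fun h0 => ha1 (by
    rw [h0, mul_one] at e
    have : a ∈ V ⊓ U₁ := ⟨e ▸ hv, ha⟩
    rwa [hd1, mem_bot] at this)
  have ho : Odd (Nat.card (Oc (Cs V) ⊓ C1 a : Subgroup G)) := odd_card_of_le inf_le_left odd_card_Oc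
  have hn' : U₁ ≤ Ns (Oc (Cs V) ⊓ C1 a) := le_Ns_inf hn (le_Ns_C1 (h.le1 (mem_sup_left ha)))
  have hX : Oc (Cs V) ⊓ C1 a ≤ Cs V := inf_le_left.trans Oc_le
  have hXz : Oc (Cs V) ⊓ C1 a ≤ C1 z := fun x hx => mem_C1.2 (by
    have e1 := mem_Cs.1 (hX hx) v hv
    have e2 := mem_C1.1 hx.2
    rw [← e, ← mul_assoc, ← e1, mul_assoc, mul_assoc] at e2
    exact mul_left_cancel e2)
  have hA := h.mixed_le hV h4 hd2 ho hn' hX (h.s1 a ha ha1) inf_le_right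
  have hB := h.mixed_le hV h4 hd2 ho hn' hX (h.s2 z hz hz1) hXz
  exact fun x hx => ⟨h.symm.inf_Cs_le hz ha ⟨⟨hB hx.1, hA hx.1⟩, hx.2⟩,
    h.inf_Cs_le ha hz ⟨⟨hA hx.1, hB hx.1⟩, h.Cs_le hV h4 hd1 hd2
        ⟨hX (commutator_le_left_of_le hn' hx.1), hx.2⟩⟩⟩

theorem exists_max_mixed :
    ∃ D, Zf U₁ U₂ D ∧ D ≤ Cs V ∧ ∀ Z, Zf U₁ U₂ Z → Z ≤ Cs V → Z ≤ D := by
  have hT : U₁ ⊔ U₂ ≤ Cs V := le_Cs_of_sq h.sq hV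
  have hn : U₁ ⊔ U₂ ≤ Ns (Oc (Cs V)) := hT.trans le_Ns_Oc_self
  have hle := gpart_le (D := Dl U₁ ⊓ Dl U₂) (le_sup_left.trans hn)
  have hc := gpart_inf_le (h.psi_cond hV h4 hd1 hd2)
  have hN : U₁ ⊔ U₂ ≤ Ns (gpart (Oc (Cs V)) U₁ (Dl U₁ ⊓ Dl U₂)) := fun g hg => by
    have g1 : g ∈ Ns U₁ := Cs_le_Ns (le_Cs_of_sq h.sq le_sup_left hg)
    have g2 : g ∈ Ns U₂ := Cs_le_Ns (le_Cs_of_sq h.sq le_sup_right hg)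
    exact mem_normalizer_gpart (hn hg) g1 (mem_Ns_inf (mem_Ns_inf (hn hg) (mem_Ns_Cs g1))
      (mem_Ns_inf (mem_Ns_Dl g1) (mem_Ns_Dl g2)))
  refine ⟨_, ⟨odd_card_of_le hle odd_card_Oc, le_sup_left.trans hN, le_sup_right.trans hN,
    hc.trans inf_le_left, fun x hx => (hc ⟨hx.1, ?_⟩).2⟩, hle.trans Oc_le, fun Z hZ hZV => ?_⟩
  · exact h.symm.Cs_le (by rwa [sup_comm]) h4 hd2 hd1 ⟨Oc_le (hle hx.1), hx.2⟩
  · exact le_gpart h.f1.isPGroup odd_card_Oc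
      (h.le_Oc hZ (h.mixed V hV h4 hd1 hd2) hZV) hZ.n1
      (le_inf hZ.c1 fun x hx => hZ.c2 ⟨hx.1, h.Cs_le hV h4 hd1 hd2 ⟨hZV hx.1, hx.2⟩⟩)

end Mixed

theorem exists_max_of_mem (h : Fs U₁ U₂) (hV : V ≤ U₁ ⊔ U₂) (hd : V ⊓ U₁ ≠ ⊥) :
    ∃ D, Zf U₁ U₂ D ∧ D ≤ Cs V ∧ ∀ Z, Zf U₁ U₂ Z → Z ≤ Cs V → Z ≤ D := by
  obtain ⟨⟨a, ha⟩, ha1⟩ := (ne_bot_iff_exists_ne_one).1 hd
  have ha1 : a ≠ 1 := fun h0 => ha1 (Subtype.ext h0)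
  exact ⟨th a U₂ ⊓ Cs V, h.inf_Cs (h.zf_th ha.2) hV, inf_le_right, fun Z hZ hZV =>
    le_inf (h.le_th ha.2 ha1 hZ (hZV.trans (Cs_le_C1 ha.1))) hZV⟩

theorem exists_max (h : Fs U₁ U₂) (hV : V ≤ U₁ ⊔ U₂) (h4 : Nat.card V = 4) :
    ∃ D, Zf U₁ U₂ D ∧ D ≤ Cs V ∧ ∀ Z, Zf U₁ U₂ Z → Z ≤ Cs V → Z ≤ D := by
  by_cases hd1 : V ⊓ U₁ = ⊥
  · by_cases hd2 : V ⊓ U₂ = ⊥
    · exact h.exists_max_mixed hV h4 hd1 hd2
    · obtain ⟨D, h1, h2, h3⟩ := h.symm.exists_max_of_mem (by rwa [sup_comm]) hd2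
      exact ⟨D, h1.symm, h2, fun Z hZ => h3 Z hZ.symm⟩
  · exact h.exists_max_of_mem hV hd1

theorem le_of_forall (h : Fs U₁ U₂) (hZ : Zf U₁ U₂ Z) {M : Subgroup G}
    (hM : ∀ a ∈ U₁, a ≠ 1 → Z ⊓ C1 a ≤ M) : Z ≤ M :=
  have := Tl.comm_of_sq h.f1.sq
  Coprime.le_of_forall_centralizer_singleton (Tl.not_cyclic h.f1.sq h.f1.card.ge) hZ.n1
    (coprime_of_odd h.f1.isPGroup hZ.odd) hM

/-- There is a largest member of the family `Zf`. -/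
theorem exists_top (h : Fs U₁ U₂) : ∃ Θ, Zf U₁ U₂ Θ ∧ ∀ Z, Zf U₁ U₂ Z → Z ≤ Θ := by
  have key : ∀ V : Subgroup G, ∃ D, V ≤ U₁ ⊔ U₂ → Nat.card V = 4 →
      Zf U₁ U₂ D ∧ D ≤ Cs V ∧ ∀ Z, Zf U₁ U₂ Z → Z ≤ Cs V → Z ≤ D := fun V => by
    by_cases hV : V ≤ U₁ ⊔ U₂ ∧ Nat.card V = 4
    · obtain ⟨D, hD⟩ := h.exists_max hV.1 hV.2
      exact ⟨D, fun _ _ => hD⟩
    · exact ⟨⊥, fun h1 h2 => (hV ⟨h1, h2⟩).elim⟩
  choose Δ hΔ using key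
  obtain ⟨Θ, ho, hn, he, -⟩ := sig2 h.sq h.card.ge Δ (fun V h1 h2 => (hΔ V h1 h2).2.1)
    (fun V h1 h2 => (hΔ V h1 h2).1.odd)
    (fun V h1 h2 => sup_le (hΔ V h1 h2).1.n1 (hΔ V h1 h2).1.n2)
    (fun V h1 h2 V' h1' h2' _ =>
      (hΔ V' h1' h2').2.2 _ (h.inf_Cs (hΔ V h1 h2).1 h1') inf_le_right)
  refine ⟨Θ, ⟨ho, le_sup_left.trans hn, le_sup_right.trans hn, ?_, ?_⟩, fun Z hZ => ?_⟩
  · have := hΔ U₁ le_sup_left h.f1.card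
    rw [he U₁ le_sup_left h.f1.card]
    exact (le_inf le_rfl this.2.1).trans this.1.c1
  · have := hΔ U₂ le_sup_right h.f2.card
    rw [he U₂ le_sup_right h.f2.card]
    exact (le_inf le_rfl this.2.1).trans this.1.c2
  · refine h.le_of_forall hZ fun a ha ha1 => ?_
    have hZa := h.inf_C1 hZ (mem_sup_left ha)
    refine h.symm.le_of_forall hZa.symm fun z hz hz1 => ?_
    have hV : zpowers a ⊔ zpowers z ≤ U₁ ⊔ U₂ := sup_le_sup (zpowers_le.2 ha) (zpowers_le.2 hz)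
    have h4 := Tl.card_zpowers_sup (h.f1.sq a ha) ha1 (h.f2.sq z hz) hz1
      (fun e => ha1 (disjoint_def.1 h.disj ha (e ▸ hz))) (mem_Cs.1 (h.comm ha) z hz)
    refine ((hΔ _ hV h4).2.2 _ (h.inf_C1 hZa (mem_sup_right hz)) ?_).trans
      ((he _ hV h4).ge.trans inf_le_left)
    rw [Tl.Cs_sup_zpowers]
    exact inf_le_inf_right _ inf_le_right

/-- The groups `th a U₂` and the groups `th z U₁` generate the same subgroup of odd order. -/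
theorem exists_theta (h : Fs U₁ U₂) : ∃ Θ : Subgroup G, Odd (Nat.card Θ) ∧
    (∀ M : Subgroup G, Θ ≤ M ↔ ∀ a ∈ U₁, a ≠ 1 → th a U₂ ≤ M) ∧
    ∀ M : Subgroup G, Θ ≤ M ↔ ∀ z ∈ U₂, z ≠ 1 → th z U₁ ≤ M := by
  obtain ⟨Θ, hΘ, hmax⟩ := h.exists_top
  refine ⟨Θ, hΘ.odd, fun M => ⟨fun hM a ha _ => (hmax _ (h.zf_th ha)).trans hM, fun hM => ?_⟩,
    fun M => ⟨fun hM z hz _ => (hmax _ (h.symm.zf_th hz).symm).trans hM, fun hM => ?_⟩⟩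
  · exact h.le_of_forall hΘ fun a ha h1 =>
      (h.le_th ha h1 (h.inf_C1 hΘ (mem_sup_left ha)) inf_le_right).trans (hM a ha h1)
  · exact h.symm.le_of_forall hΘ.symm fun z hz h1 =>
      (h.symm.le_th hz h1 (h.inf_C1 hΘ (mem_sup_right hz)).symm inf_le_right).trans (hM z hz h1)

end Fs

end Cfsg.Lib.DFac
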